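import Groth.Agent.ConormalSecLib.Basic
import Groth.Agent.OmegaAffLib.Exact

/-!
# The derivation of a map out of the conormal sheaf killing the conormal sheaf of the composite
-/

set_option autoImplicit false
set_option linter.style.haveILetI false
universe u

open CategoryTheory CategoryTheory.Limits AlgebraicGeometry TopologicalSpace Opposite

namespace ConormalSeqLib

theorem resX {X : Scheme.{u}} {A B C : X.Opens} (h₁ : B ≤ A) (h₂ : C ≤ B) (a : Γ(X, A)) :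
    X.presheaf.map (homOfLE h₂).op (X.presheaf.map (homOfLE h₁).op a) =
      X.presheaf.map (homOfLE (h₂.trans h₁)).op a := by
  rw [← ConcreteCategory.comp_apply, ← Functor.map_comp, ← op_comp, homOfLE_comp]

theorem resM {X : Scheme.{u}} (M : X.Modules) {A B C : X.Opens} (h₁ : B ≤ A) (h₂ : C ≤ B) (a : Γ(M, A)) :
    M.presheaf.map (homOfLE h₂).op (M.presheaf.map (homOfLE h₁).op a) =
      M.presheaf.map (homOfLE (h₂.trans h₁)).op a := by
  rw [← ConcreteCategory.comp_apply, ← Functor.map_comp, ← op_comp, homOfLE_comp]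

theorem hidM {A : Scheme.{u}} (M : A.Modules) {W : A.Opens} (m : Γ(M, W)) :
    M.presheaf.map (homOfLE (le_refl W)).op m = m := by
  rw [show (homOfLE (le_refl W)).op = 𝟙 _ from Subsingleton.elim _ _, M.presheaf.map_id]
  rfl

theorem hidX {A : Scheme.{u}} {W : A.Opens} (m : Γ(A, W)) :
    A.presheaf.map (homOfLE (le_refl W)).op m = m := by
  rw [show (homOfLE (le_refl W)).op = 𝟙 _ from Subsingleton.elim _ _, A.presheaf.map_id]
  rfl

variable {Z X Y : Scheme.{u}} (p : X ⟶ Y) (i : Z ⟶ X)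

/-- `x` differs on `W'` from a function on `Y` by the section `s` of the ideal of `i`. -/
def IsLift {W W' : X.Opens} (hW : W' ≤ W) (x : Γ(X, W)) {U : Y.Opens} (hU : W' ≤ p ⁻¹ᵁ U) (y : Γ(Y, U))
    (s : Γ(ClSub.idealMod i.ker, W')) : Prop :=
  OmegaSh.idealSect i.ker W' s = X.presheaf.map (homOfLE hW).op x - p.appLE U W' hU y

theorem appLE_res {W' W'' : X.Opens} {U U'' : Y.Opens} (hU : W' ≤ p ⁻¹ᵁ U) (h : W'' ≤ W') (hU' : U'' ≤ U)
    (hU'' : W'' ≤ p ⁻¹ᵁ U'') (y : Γ(Y, U)) :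
    p.appLE U'' W'' hU'' (Y.presheaf.map (homOfLE hU').op y) =
      X.presheaf.map (homOfLE h).op (p.appLE U W' hU y) := by
  rw [← ConcreteCategory.comp_apply, ← ConcreteCategory.comp_apply, Scheme.Hom.map_appLE, Scheme.Hom.appLE_map]

theorem IsLift.res {W W' W'' : X.Opens} {hW : W' ≤ W} {x : Γ(X, W)} {U U'' : Y.Opens} {hU : W' ≤ p ⁻¹ᵁ U}
    {y : Γ(Y, U)} {s : Γ(ClSub.idealMod i.ker, W')} (h : IsLift p i hW x hU y s) (h' : W'' ≤ W')
    (hU' : U'' ≤ U) (hU'' : W'' ≤ p ⁻¹ᵁ U'') :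
    IsLift p i (h'.trans hW) x hU'' (Y.presheaf.map (homOfLE hU').op y)
      ((ClSub.idealMod i.ker).presheaf.map (homOfLE h').op s) := by
  unfold IsLift at h ⊢
  rw [ConormalSecLib.idealSect_map, h, map_sub, resX, appLE_res p hU h' hU' hU'']

variable (j : Z ⟶ Y) (hij : i ≫ p = j)
include hij

theorem app_appLE {W' : X.Opens} {U : Y.Opens} (hU : W' ≤ p ⁻¹ᵁ U) (hj : i ⁻¹ᵁ W' ≤ j ⁻¹ᵁ U) (y : Γ(Y, U)) :
    i.app W' (p.appLE U W' hU y) = Z.presheaf.map (homOfLE hj).op (j.app U y) := by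
  subst hij
  rw [← ConcreteCategory.comp_apply, ← ConcreteCategory.comp_apply]
  simp only [Scheme.Hom.app_eq_appLE, Scheme.Hom.appLE_comp_appLE, Scheme.Hom.appLE_map]

theorem preimage_le {W' : X.Opens} {U : Y.Opens} (hU : W' ≤ p ⁻¹ᵁ U) : i ⁻¹ᵁ W' ≤ j ⁻¹ᵁ U := by
  subst hij
  exact i.preimage_mono hU

theorem IsLift.app_eq {W W' : X.Opens} {hW : W' ≤ W} {x : Γ(X, W)} {U : Y.Opens} {hU : W' ≤ p ⁻¹ᵁ U}
    {y : Γ(Y, U)} {s : Γ(ClSub.idealMod i.ker, W')} [QuasiCompact i] (h : IsLift p i hW x hU y s)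
    (hj : i ⁻¹ᵁ W' ≤ j ⁻¹ᵁ U) :
    Z.presheaf.map (homOfLE hj).op (j.app U y) = Z.presheaf.map (homOfLE (i.preimage_mono hW)).op (i.app W x) := by
  unfold IsLift at h
  have h0 := congrArg (i.app W') h
  rw [ConormalSecLib.app_idealSect, map_sub, eq_comm, sub_eq_zero] at h0
  exact (app_appLE p i j hij hU hj y).symm.trans
    (h0.symm.trans (congr($(i.naturality (homOfLE hW).op) x)))

variable [IsImmersion j] [QuasiCompact i] [QuasiCompact j]

theorem exists_isLift (W : X.Opens) (x : Γ(X, W)) (z : Z) (hz : z ∈ i ⁻¹ᵁ W) :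
    ∃ (W' : X.Opens) (hW : W' ≤ W) (U : Y.Opens) (hU : W' ≤ p ⁻¹ᵁ U) (y : Γ(Y, U))
      (s : Γ(ClSub.idealMod i.ker, W')), z ∈ i ⁻¹ᵁ W' ∧ IsLift p i hW x hU y s := by
  obtain ⟨t, ht⟩ := j.stalkMap_surjective z (Z.presheaf.germ (i ⁻¹ᵁ W) z hz (i.app W x))
  obtain ⟨U, hzU, y, rfl⟩ := Y.presheaf.exists_germ_eq (x := j z) t
  rw [Scheme.Hom.germ_stalkMap_apply] at ht
  obtain ⟨V, hzV, i₁, i₂, h⟩ := TopCat.Presheaf.germ_eq Z.presheaf z (U := j ⁻¹ᵁ U) (V := i ⁻¹ᵁ W) hzU hz _ _ ht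
  rw [show i₁ = homOfLE i₁.le from Subsingleton.elim _ _, show i₂ = homOfLE i₂.le from Subsingleton.elim _ _] at h
  obtain ⟨O, hO, hOV⟩ := j.isEmbedding.isInducing.isOpen_iff.1 V.2
  let W' : X.Opens := W ⊓ p ⁻¹ᵁ (U ⊓ ⟨O, hO⟩)
  have hU : W' ≤ p ⁻¹ᵁ U := inf_le_right.trans (p.preimage_mono inf_le_left)
  have hV : i ⁻¹ᵁ W' ≤ V := fun w hw => hOV.subset (show j w ∈ O by
    have h2 : p (i w) ∈ O := hw.2.2
    rwa [← Scheme.Hom.comp_apply, hij] at h2)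
  have hj := preimage_le p i j hij hU
  have hzW' : z ∈ i ⁻¹ᵁ W' := by
    refine ⟨hz, ?_⟩
    show p (i z) ∈ U ⊓ ⟨O, hO⟩
    rw [← Scheme.Hom.comp_apply, hij]
    exact ⟨hzU, hOV.symm.subset hzV⟩
  have he : i.app W' (X.presheaf.map (homOfLE (inf_le_left : W' ≤ W)).op x - p.appLE U W' hU y) = 0 := by
    rw [map_sub, sub_eq_zero, app_appLE p i j hij hU hj]
    have h' := congrArg (Z.presheaf.map (homOfLE hV).op) h
    rw [resX, resX] at h'
    exact (congr($(i.naturality (homOfLE (inf_le_left : W' ≤ W)).op) x)).trans h'.symm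
  exact ⟨W', inf_le_left, U, hU, y, ConormalSecLib.lift i W' _ he, hzW',
    ConormalSecLib.idealSect_lift i W' _ he⟩

variable {M : Z.Modules} (χ : Omega.conormal i ⟶ M)
  {ψ : (Scheme.Modules.pullback (𝟙 Z)).obj (Omega.conormal j) ⟶ Omega.conormal i}
  (hψ : OmegaSh.IsConormalMap i j p (𝟙 Z) ψ) (hχ : ψ ≫ χ = 0)
include hψ hχ

theorem val_congr {W W₁ W₂ : X.Opens} {x : Γ(X, W)} {h₁ : W₁ ≤ W} {U₁ : Y.Opens} {hU₁ : W₁ ≤ p ⁻¹ᵁ U₁}
    {y₁ : Γ(Y, U₁)} {s₁ : Γ(ClSub.idealMod i.ker, W₁)} (l₁ : IsLift p i h₁ x hU₁ y₁ s₁)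
    {h₂ : W₂ ≤ W} {U₂ : Y.Opens} {hU₂ : W₂ ≤ p ⁻¹ᵁ U₂} {y₂ : Γ(Y, U₂)}
    {s₂ : Γ(ClSub.idealMod i.ker, W₂)} (l₂ : IsLift p i h₂ x hU₂ y₂ s₂) :
    M.presheaf.map (homOfLE (i.preimage_mono (inf_le_left : W₁ ⊓ W₂ ≤ W₁))).op
        (χ.app (i ⁻¹ᵁ W₁) (OmegaSh.conormalSect i W₁ s₁)) =
      M.presheaf.map (homOfLE (i.preimage_mono (inf_le_right : W₁ ⊓ W₂ ≤ W₂))).op
        (χ.app (i ⁻¹ᵁ W₂) (OmegaSh.conormalSect i W₂ s₂)) := by
  let W₃ := W₁ ⊓ W₂
  obtain ⟨O, hO, hOV⟩ := j.isEmbedding.isInducing.isOpen_iff.1 (i ⁻¹ᵁ W₃).2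
  let U₃ : Y.Opens := U₁ ⊓ U₂ ⊓ ⟨O, hO⟩
  have a₁ : U₃ ≤ U₁ := inf_le_left.trans inf_le_left
  have a₂ : U₃ ≤ U₂ := inf_le_left.trans inf_le_right
  have hjge : i ⁻¹ᵁ W₃ ≤ j ⁻¹ᵁ U₃ := fun w hw =>
    ⟨⟨preimage_le p i j hij hU₁ hw.1, preimage_le p i j hij hU₂ hw.2⟩, hOV.symm.subset hw⟩
  let W₄ := W₃ ⊓ p ⁻¹ᵁ U₃
  have hge : i ⁻¹ᵁ W₃ ≤ i ⁻¹ᵁ W₄ := fun w hw => by
    refine ⟨hw, ?_⟩
    show p (i w) ∈ U₃
    rw [← Scheme.Hom.comp_apply, hij]
    exact hjge hw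
  have b₁ : W₄ ≤ W₁ := inf_le_left.trans inf_le_left
  have b₂ : W₄ ≤ W₂ := inf_le_left.trans inf_le_right
  have hU₄ : W₄ ≤ p ⁻¹ᵁ U₃ := inf_le_right
  have hji : j ⁻¹ᵁ U₃ ≤ i ⁻¹ᵁ W₃ := fun w hw => hOV.subset hw.2
  have r₁ := l₁.res p i b₁ a₁ hU₄
  have r₂ := l₂.res p i b₂ a₂ hU₄
  let e := Y.presheaf.map (homOfLE a₂).op y₂ - Y.presheaf.map (homOfLE a₁).op y₁
  have he : j.app U₃ e = 0 := by
    have e₁ := r₁.app_eq p i j hij (preimage_le p i j hij hU₄)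
    have e₂ := r₂.app_eq p i j hij (preimage_le p i j hij hU₄)
    have e3 := congrArg (Z.presheaf.map (homOfLE (hji.trans hge)).op) (e₂.trans e₁.symm)
    rw [resX, resX, hidX, hidX] at e3
    rw [map_sub, sub_eq_zero]
    exact e3
  let t := ConormalSecLib.lift j U₃ e he
  have hjj : i ⁻¹ᵁ (p ⁻¹ᵁ U₃) ≤ j ⁻¹ᵁ U₃ := preimage_le p i j hij le_rfl
  have hs' : i.app (p ⁻¹ᵁ U₃) (p.app U₃ e) = 0 := by
    rw [Scheme.Hom.app_eq_appLE p, app_appLE p i j hij le_rfl hjj, he, map_zero]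
  let s' := ConormalSecLib.lift i (p ⁻¹ᵁ U₃) _ hs'
  have hz : ∀ (V : Z.Opens) (h₁' : V ≤ i ⁻¹ᵁ (p ⁻¹ᵁ U₃)), V ≤ j ⁻¹ᵁ U₃ →
      M.presheaf.map (homOfLE h₁').op (χ.app _ (OmegaSh.conormalSect i (p ⁻¹ᵁ U₃) s')) = 0 := by
    intro V h₁' h₂'
    have h := hψ.2 U₃ t s' (by
      rw [ConormalSecLib.idealSect_lift i _ _ hs', ConormalSecLib.idealSect_lift j _ _ he]) V h₂' h₁'
    refine (congr($(χ.mapPresheaf.naturality (homOfLE h₁').op) (OmegaSh.conormalSect i (p ⁻¹ᵁ U₃) s'))).symm.trans ?_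
    refine (congrArg (χ.app V) h.symm).trans ?_
    refine (congr($(χ.mapPresheaf.naturality (homOfLE h₂').op) _)).trans ?_
    show M.presheaf.map (homOfLE h₂').op ((ψ ≫ χ).app _ _) = 0
    rw [hχ]
    exact map_zero _
  have hdiff : (ClSub.idealMod i.ker).presheaf.map (homOfLE b₁).op s₁ -
      (ClSub.idealMod i.ker).presheaf.map (homOfLE b₂).op s₂ =
      (ClSub.idealMod i.ker).presheaf.map (homOfLE hU₄).op s' := by
    apply ConormalSecLib.idealSect_injective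
    rw [map_sub, r₁, r₂, ConormalSecLib.idealSect_map, ConormalSecLib.idealSect_lift]
    have he' : X.presheaf.map (homOfLE hU₄).op (p.app U₃ e) = p.appLE U₃ W₄ hU₄ e := rfl
    rw [he', map_sub]
    abel
  have hnat : ∀ {A B : X.Opens} (h : B ≤ A) (s : Γ(ClSub.idealMod i.ker, A)),
      χ.app (i ⁻¹ᵁ B) (OmegaSh.conormalSect i B ((ClSub.idealMod i.ker).presheaf.map (homOfLE h).op s)) =
        M.presheaf.map (homOfLE (i.preimage_mono h)).op (χ.app (i ⁻¹ᵁ A) (OmegaSh.conormalSect i A s)) :=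
    fun h s => (congrArg (χ.app _) (OmegaSh.pullSect_map i (ClSub.idealMod i.ker) h s)).trans
      (congr($(χ.mapPresheaf.naturality (homOfLE (i.preimage_mono h)).op) (OmegaSh.conormalSect i _ s)))
  have h4 : χ.app (i ⁻¹ᵁ W₄) (OmegaSh.conormalSect i W₄ ((ClSub.idealMod i.ker).presheaf.map (homOfLE b₁).op s₁)) -
      χ.app (i ⁻¹ᵁ W₄) (OmegaSh.conormalSect i W₄ ((ClSub.idealMod i.ker).presheaf.map (homOfLE b₂).op s₂)) = 0 := by
    refine ((map_sub (χ.app _).hom _ _).symm.trans (congrArg (χ.app _)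
      (map_sub (OmegaSh.conormalSect i W₄).hom _ _).symm)).trans ?_
    refine (congrArg (fun s => χ.app (i ⁻¹ᵁ W₄) (OmegaSh.conormalSect i W₄ s)) hdiff).trans ?_
    rw [hnat]
    exact hz _ _ (preimage_le p i j hij hU₄)
  rw [sub_eq_zero, hnat, hnat] at h4
  have h5 := congrArg (M.presheaf.map (homOfLE hge).op) h4
  rw [resM, resM] at h5
  exact h5

theorem exists_descVal (W : X.Opens) (x : Γ(X, W)) :
    ∃ m : Γ(M, i ⁻¹ᵁ W), ∀ (W' : X.Opens) (hW : W' ≤ W) (U : Y.Opens) (hU : W' ≤ p ⁻¹ᵁ U) (y : Γ(Y, U))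
      (s : Γ(ClSub.idealMod i.ker, W')), IsLift p i hW x hU y s →
        M.presheaf.map (homOfLE (i.preimage_mono hW)).op m =
          χ.app (i ⁻¹ᵁ W') (OmegaSh.conormalSect i W' s) := by
  choose W' hW U hU y s hmem hl using fun z : (i ⁻¹ᵁ W : Z.Opens) => exists_isLift p i j hij W x z.1 z.2
  let Ms : TopCat.Sheaf AddCommGrpCat Z := ⟨M.presheaf, M.isSheaf⟩
  obtain ⟨m, hm, -⟩ := Ms.existsUnique_gluing' (fun z => i ⁻¹ᵁ (W' z)) (i ⁻¹ᵁ W)
    (fun z => homOfLE (i.preimage_mono (hW z))) (fun z hz => Opens.mem_iSup.2 ⟨⟨z, hz⟩, hmem _⟩)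
    (fun z => χ.app (i ⁻¹ᵁ W' z) (OmegaSh.conormalSect i (W' z) (s z)))
    (fun a b => val_congr p i j hij χ hψ hχ (hl a) (hl b))
  refine ⟨m, fun W₁ hW₁ U₁ hU₁ y₁ s₁ l₁ => ?_⟩
  refine TopCat.Sheaf.eq_of_locally_eq' Ms (fun z => i ⁻¹ᵁ (W' z ⊓ W₁)) (i ⁻¹ᵁ W₁)
    (fun z => homOfLE (i.preimage_mono inf_le_right)) ?_ _ _ fun z => ?_
  · exact fun z hz => Opens.mem_iSup.2 ⟨⟨z, i.preimage_mono hW₁ hz⟩, hmem _, hz⟩
  · show M.presheaf.map _ (M.presheaf.map _ m) = M.presheaf.map _ _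
    refine Eq.trans ?_ (val_congr p i j hij χ hψ hχ (hl z) l₁)
    rw [← hm z]
    show _ = M.presheaf.map _ (M.presheaf.map _ m)
    rw [resM, resM]

/-- The value of the derivation. -/
noncomputable def descVal (W : X.Opens) (x : Γ(X, W)) : Γ(M, i ⁻¹ᵁ W) :=
  (exists_descVal p i j hij χ hψ hχ W x).choose

theorem descVal_spec {W W' : X.Opens} (hW : W' ≤ W) {x : Γ(X, W)} {U : Y.Opens} {hU : W' ≤ p ⁻¹ᵁ U}
    {y : Γ(Y, U)} {s : Γ(ClSub.idealMod i.ker, W')} (l : IsLift p i hW x hU y s) :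
    M.presheaf.map (homOfLE (i.preimage_mono hW)).op (descVal p i j hij χ hψ hχ W x) =
      χ.app (i ⁻¹ᵁ W') (OmegaSh.conormalSect i W' s) :=
  (exists_descVal p i j hij χ hψ hχ W x).choose_spec W' hW U hU y s l

omit hψ hχ in
theorem eq_of_lifts {W : X.Opens} (a b : Γ(X, W)) {m m' : Γ(M, i ⁻¹ᵁ W)}
    (h : ∀ (W' : X.Opens) (hW : W' ≤ W) (U : Y.Opens) (hU : W' ≤ p ⁻¹ᵁ U) (ya yb : Γ(Y, U))
      (sa sb : Γ(ClSub.idealMod i.ker, W')), IsLift p i hW a hU ya sa → IsLift p i hW b hU yb sb →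
        M.presheaf.map (homOfLE (i.preimage_mono hW)).op m =
          M.presheaf.map (homOfLE (i.preimage_mono hW)).op m') : m = m' := by
  choose Wa hWa Ua hUa ya sa hma la using fun z : (i ⁻¹ᵁ W : Z.Opens) => exists_isLift p i j hij W a z.1 z.2
  choose Wb hWb Ub hUb yb sb hmb lb using fun z : (i ⁻¹ᵁ W : Z.Opens) => exists_isLift p i j hij W b z.1 z.2
  refine TopCat.Sheaf.eq_of_locally_eq' (⟨M.presheaf, M.isSheaf⟩ : TopCat.Sheaf AddCommGrpCat Z)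
    (fun z => i ⁻¹ᵁ (Wa z ⊓ Wb z)) (i ⁻¹ᵁ W)
    (fun z => homOfLE (i.preimage_mono (inf_le_left.trans (hWa z))))
    (fun z hz => Opens.mem_iSup.2 ⟨⟨z, hz⟩, hma _, hmb _⟩) _ _ fun z => ?_
  have hU : Wa z ⊓ Wb z ≤ p ⁻¹ᵁ (Ua z ⊓ Ub z) := fun w hw => ⟨hUa z hw.1, hUb z hw.2⟩
  exact h _ _ _ hU _ _ _ _ ((la z).res p i inf_le_left inf_le_left hU) ((lb z).res p i inf_le_right inf_le_right hU)

theorem descVal_add (W : X.Opens) (a b : Γ(X, W)) :
    descVal p i j hij χ hψ hχ W (a + b) = descVal p i j hij χ hψ hχ W a + descVal p i j hij χ hψ hχ W b := by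
  refine eq_of_lifts p i j hij a b fun W' hW U hU ya yb sa sb la lb => ?_
  have l : IsLift p i hW (a + b) hU (ya + yb) (sa + sb) := by
    unfold IsLift at la lb ⊢
    rw [map_add, la, lb, map_add, map_add]
    abel
  refine (descVal_spec p i j hij χ hψ hχ hW l).trans ?_
  refine Eq.trans ?_ (map_add (M.presheaf.map (homOfLE (i.preimage_mono hW)).op).hom _ _).symm
  refine Eq.trans ?_ (congrArg₂ (· + ·) (descVal_spec p i j hij χ hψ hχ hW la)
    (descVal_spec p i j hij χ hψ hχ hW lb)).symm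
  exact (congrArg (χ.app _) (map_add (OmegaSh.conormalSect i W').hom sa sb)).trans (map_add (χ.app _).hom _ _)

theorem descVal_mul (W : X.Opens) (a b : Γ(X, W)) :
    descVal p i j hij χ hψ hχ W (a * b) =
      i.app W a • descVal p i j hij χ hψ hχ W b + i.app W b • descVal p i j hij χ hψ hχ W a := by
  refine eq_of_lifts p i j hij a b fun W' hW U hU ya yb sa sb la lb => ?_
  let a' := X.presheaf.map (homOfLE hW).op a
  let b' := p.appLE U W' hU yb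
  have l : IsLift p i hW (a * b) hU (ya * yb) (a' • sb + b' • sa) := by
    unfold IsLift at la lb ⊢
    rw [map_add, ConormalSecLib.idealSect_smul, ConormalSecLib.idealSect_smul, la, lb, map_mul, map_mul]
    simp only [a', b']
    ring
  refine (descVal_spec p i j hij χ hψ hχ hW l).trans ?_
  have hb : i.app W' b' = Z.presheaf.map (homOfLE (i.preimage_mono hW)).op (i.app W b) :=
    (app_appLE p i j hij hU (preimage_le p i j hij hU) yb).trans (lb.app_eq p i j hij _)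
  have ha : i.app W' a' = Z.presheaf.map (homOfLE (i.preimage_mono hW)).op (i.app W a) :=
    congr($(i.naturality (homOfLE hW).op) a)
  refine Eq.trans ?_ ((map_add (M.presheaf.map (homOfLE (i.preimage_mono hW)).op).hom _ _).trans
    (congrArg₂ (· + ·) ((Scheme.Modules.map_smul M (homOfLE (i.preimage_mono hW)) (i.app W a) _).trans
      (congrArg₂ (· • ·) ha.symm (descVal_spec p i j hij χ hψ hχ hW lb)))
      ((Scheme.Modules.map_smul M (homOfLE (i.preimage_mono hW)) (i.app W b) _).trans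
      (congrArg₂ (· • ·) hb.symm (descVal_spec p i j hij χ hψ hχ hW la))))).symm
  refine (congrArg (χ.app _) ((map_add (OmegaSh.conormalSect i W').hom _ _).trans
    (congrArg₂ (· + ·) (OmegaSh.pullSect_smul i _ W' a' sb) (OmegaSh.pullSect_smul i _ W' b' sa)))).trans ?_
  exact (map_add (χ.app _).hom _ _).trans (congrArg₂ (· + ·) (χ.app_smul _ _) (χ.app_smul _ _))

theorem descVal_map {W W' : X.Opens} (h : W' ≤ W) (a : Γ(X, W)) :
    descVal p i j hij χ hψ hχ W' (X.presheaf.map (homOfLE h).op a) =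
      M.presheaf.map (homOfLE (i.preimage_mono h)).op (descVal p i j hij χ hψ hχ W a) := by
  refine eq_of_lifts p i j hij (X.presheaf.map (homOfLE h).op a) (X.presheaf.map (homOfLE h).op a)
    fun W'' hW U hU ya _ sa _ la _ => ?_
  refine (descVal_spec p i j hij χ hψ hχ hW la).trans (Eq.symm ?_)
  rw [resM]
  refine descVal_spec p i j hij χ hψ hχ (hW.trans h) (x := a) (hU := hU) (y := ya) ?_
  unfold IsLift at la ⊢
  rw [la, resX]

theorem descVal_app (U : Y.Opens) (c : Γ(Y, U)) :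
    descVal p i j hij χ hψ hχ (p ⁻¹ᵁ U) (p.app U c) = 0 := by
  have l : IsLift p i (le_refl (p ⁻¹ᵁ U)) (p.app U c) (le_refl (p ⁻¹ᵁ U)) c 0 := by
    unfold IsLift
    rw [map_zero, hidX, ← Scheme.Hom.app_eq_appLE, sub_self]
  have h := descVal_spec p i j hij χ hψ hχ _ l
  rw [hidM] at h
  exact h.trans ((congrArg (χ.app _) (map_zero (OmegaSh.conormalSect i _).hom)).trans (map_zero (χ.app _).hom))

/-- The derivation of `χ`. -/
noncomputable def descDer : OmegaSh.Der p ((Scheme.Modules.pushforward i).obj M) where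
  d {W} := AddMonoidHom.mk' (fun a => descVal p i j hij χ hψ hχ W.unop a) (descVal_add p i j hij χ hψ hχ W.unop)
  d_mul {W} a b := descVal_mul p i j hij χ hψ hχ W.unop a b
  d_map {W W'} h a := descVal_map p i j hij χ hψ hχ h.unop.le a
  d_app {O} c := descVal_app p i j hij χ hψ hχ O.unop c

theorem descDer_idealSect (W : X.Opens) (s : Γ(ClSub.idealMod i.ker, W)) :
    (descDer p i j hij χ hψ hχ).app W (OmegaSh.idealSect i.ker W s) =
      χ.app (i ⁻¹ᵁ W) (OmegaSh.conormalSect i W s) := by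
  have hU : W ≤ p ⁻¹ᵁ (⊤ : Y.Opens) := le_top
  have l : IsLift p i (le_refl W) (OmegaSh.idealSect i.ker W s) hU 0 s := by
    unfold IsLift
    rw [map_zero, sub_zero, hidX]
  have h := descVal_spec p i j hij χ hψ hχ _ l
  rw [hidM] at h
  exact h

end ConormalSeqLib
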